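import Cfsg.Agent.Lib.Classical.QuadOmega.Apply
import Cfsg.Agent.Lib.Classical.QuadStd

/-!
Exceptional isomorphisms: a homomorphism onto `Ω` identifies `PΩ` with a central quotient.
-/

set_option autoImplicit false

namespace Cfsg.Agent.Lib.Classical.ExcIso

open QuadraticMap Cfsg.Agent.Lib.Classical.Quad Cfsg.Agent.Lib.Classical.QuadOmega
open scoped commutatorElement

attribute [local instance] _root_.Classical.propDecidable

/-- The number of square roots of one. -/
noncomputable def rootsTwo (F : Type*) [Field F] : ℕ := if (2 : F) = 0 then 1 else 2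

lemma card_sqrt_one_le (L : Type*) [Field L] : Nat.card {c : L // c * c = 1} ≤ rootsTwo L := by
  have hfin : ∀ x : {c : L // c * c = 1}, x.1 = 1 ∨ x.1 = -1 := fun x => mul_self_eq_one_iff.1 x.2
  unfold rootsTwo
  split_ifs with h
  · have hneg : (-1 : L) = 1 := by linear_combination -h
    have : Subsingleton {c : L // c * c = 1} := ⟨fun x y => Subtype.ext (by
      rcases hfin x with hx | hx <;> rcases hfin y with hy | hy <;> simp [hx, hy, hneg])⟩
    exact Finite.card_le_one_iff_subsingleton.2 this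
  · refine (Nat.card_le_card_of_injective (fun x : {c : L // c * c = 1} => decide (x.1 = 1))
      fun x y hxy => Subtype.ext ?_).trans (by simp)
    have hne : (-1 : L) ≠ 1 := fun h' => h (by linear_combination -h')
    rcases hfin x with hx | hx <;> rcases hfin y with hy | hy
    · rw [hx, hy]
    · simp [hx, hy, hne] at hxy
    · simp [hx, hy, hne] at hxy
    · rw [hx, hy]

lemma rootsTwo_map {F L : Type*} [Field F] [Field L] (σ : F →+* L) : rootsTwo L = rootsTwo F := by
  have h : (2 : L) = 0 ↔ (2 : F) = 0 :=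
    ⟨fun h => σ.injective (by rw [map_ofNat, map_zero, h]),
      fun h => by rw [← map_ofNat σ 2, h, map_zero]⟩
  unfold rootsTwo
  by_cases h2 : (2 : F) = 0
  · rw [if_pos h2, if_pos (h.2 h2)]
  · rw [if_neg h2, if_neg fun h' => h2 (h.1 h')]

variable {F : Type*} [Field F] [Fintype F] {V : Type*} [AddCommGroup V] [Module F V] [Finite V]
  {Q : QuadraticForm F V} {ι : Type} [Fintype ι] [DecidableEq ι]

lemma index_omega_ge (f : (ι → F) → F) (e : V ≃ₗ[F] (ι → F)) (he : ∀ v, f (e v) = Q v) (hQ : Nd Q)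
    (hn : 2 ≤ Module.finrank F V) : 2 * rootsTwo F ≤ (Cfsg.Omega F f).index := by
  rw [index_omega f e he]
  unfold rootsTwo
  split_ifs with h
  · have : Nontrivial V := Module.nontrivial_of_finrank_pos (R := F) (by omega)
    obtain ⟨u, hu⟩ := hQ.exists_nonsing
    have hsurj : Function.Surjective (dick hQ) := fun x => by
      rcases Int.units_eq_one_or x with rfl | rfl
      · exact ⟨1, map_one _⟩
      · exact ⟨_, dick_refl hQ hu⟩
    have hd := Subgroup.index_dvd_of_le (commutator_le_ker (dick hQ))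
    rw [Subgroup.index_ker, MonoidHom.range_eq_top.2 hsurj, Subgroup.card_top,
      Nat.card_eq_fintype_card, Fintype.card_units_int] at hd
    exact Nat.le_of_dvd (Nat.pos_of_ne_zero Subgroup.index_ne_zero_of_finite) hd
  · rw [index_commutator_odd hQ h hn]

/-- A large homomorphism into `Ω` with central kernel. -/
theorem pOmega_equiv (f : (ι → F) → F) (e : V ≃ₗ[F] (ι → F)) (he : ∀ v, f (e v) = Q v) (hQ : Nd Q)
    (hn : 2 ≤ Module.finrank F V) {G : Type*} [Group G] [Finite G]
    (ψ : G →* Cfsg.isometryGroup F f) (hle : ∀ g, ψ g ∈ Cfsg.Omega F f)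
    (hO : Nat.card (Cfsg.isometryGroup F f) = 2 * Nat.card G)
    (hker : Nat.card ψ.ker ≤ rootsTwo F) (hkc : ψ.ker ≤ Subgroup.center G)
    (hc : ∀ g : G, (∀ h, ⁅g, h⁆ ∈ Subgroup.center G) → g ∈ Subgroup.center G) :
    Nonempty (Cfsg.POmega F f ≃* G ⧸ Subgroup.center G) := by
  let φ : G →* Cfsg.Omega F f := ψ.codRestrict _ hle
  have hker' : φ.ker = ψ.ker := by
    ext g
    exact ⟨fun h => congrArg Subtype.val h, fun h => Subtype.ext h⟩
  have hi : 2 * rootsTwo F * Nat.card (Cfsg.Omega F f) ≤ Nat.card (Cfsg.isometryGroup F f) := by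
    rw [← (Cfsg.Omega F f).card_mul_index, mul_comm]
    exact Nat.mul_le_mul_left _ (index_omega_ge f e he hQ hn)
  have hG : Nat.card G ≤ rootsTwo F * Nat.card φ.range := by
    rw [← φ.ker.card_mul_index, Subgroup.index_ker, hker']
    exact Nat.mul_le_mul_right _ hker
  have hsurj : Function.Surjective φ := MonoidHom.range_eq_top.1 (Subgroup.eq_top_of_le_card _ (by
    have h0 : 0 < rootsTwo F := by unfold rootsTwo; split <;> norm_num
    refine Nat.le_of_mul_le_mul_left ?_ (Nat.mul_pos two_pos h0)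
    calc 2 * rootsTwo F * Nat.card (Cfsg.Omega F f) ≤ 2 * Nat.card G := hi.trans hO.le
      _ ≤ 2 * (rootsTwo F * Nat.card φ.range) := Nat.mul_le_mul_left _ hG
      _ = _ := (mul_assoc _ _ _).symm))
  have hcomap : (Subgroup.center (Cfsg.Omega F f)).comap φ = Subgroup.center G := by
    ext g
    rw [Subgroup.mem_comap]
    constructor
    · intro hg
      refine hc g fun h => hkc ?_
      rw [← hker', MonoidHom.mem_ker, map_commutatorElement, commutatorElement_eq_one_iff_mul_comm]
      exact (Subgroup.mem_center_iff.1 hg (φ h)).symm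
    · intro hg
      refine Subgroup.mem_center_iff.2 fun y => ?_
      obtain ⟨x, rfl⟩ := hsurj y
      rw [← map_mul, ← map_mul, Subgroup.mem_center_iff.1 hg x]
  let π := (QuotientGroup.mk' (Subgroup.center (Cfsg.Omega F f))).comp φ
  have hπ : π.ker = Subgroup.center G := by
    ext g
    rw [MonoidHom.mem_ker, ← hcomap, Subgroup.mem_comap]
    exact QuotientGroup.eq_one_iff _
  exact ⟨((QuotientGroup.quotientKerEquivOfSurjective π
    ((QuotientGroup.mk'_surjective _).comp hsurj)).symm).trans (QuotientGroup.quotientMulEquivOfEq hπ)⟩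

omit [Fintype F] in
/-- Grün's lemma. -/
lemma grun {G : Type*} [Group G] (hp : commutator G = ⊤) (g : G)
    (hg : ∀ h, ⁅g, h⁆ ∈ Subgroup.center G) : g ∈ Subgroup.center G := by
  let θ : G →* Subgroup.center G := MonoidHom.mk' (fun h => ⟨⁅g, h⁆, hg h⟩) fun a b => Subtype.ext (by
    have hc := Subgroup.mem_center_iff.1 (hg b) a
    have e1 : ⁅g, a * b⁆ = ⁅g, a⁆ * (a * ⁅g, b⁆ * a⁻¹) := by simp only [commutatorElement_def]; group
    show ⁅g, a * b⁆ = ⁅g, a⁆ * ⁅g, b⁆
    rw [e1, hc, mul_inv_cancel_right])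
  have hθ : θ.ker = ⊤ := top_le_iff.1 (hp.symm.le.trans (by
    rw [commutator_def, Subgroup.commutator_le]
    intro a _ b _
    rw [MonoidHom.mem_ker, map_commutatorElement, commutatorElement_eq_one_iff_mul_comm]
    exact Subtype.ext (Subgroup.mem_center_iff.1 (θ b).2 _)))
  refine Subgroup.mem_center_iff.2 fun h => ?_
  have h1 : θ h = 1 := MonoidHom.mem_ker.1 (hθ ▸ Subgroup.mem_top h)
  exact (commutatorElement_eq_one_iff_mul_comm.1 (congrArg Subtype.val h1)).symm

omit [Fintype F] in
lemma le_omega_of_perfect {G : Type*} [Group G] (f : (ι → F) → F) (hp : commutator G = ⊤)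
    (ψ : G →* Cfsg.isometryGroup F f) (g : G) : ψ g ∈ Cfsg.Omega F f := by
  have h : (commutator G).map ψ ≤ Cfsg.Omega F f := by
    rw [commutator_def, Subgroup.map_commutator]
    exact Subgroup.commutator_mono le_top le_top
  exact h ⟨g, hp ▸ Subgroup.mem_top g, rfl⟩

/-- Odd characteristic: a group with no quotient of order two maps into `Ω`. -/
lemma le_omega_of_sign (f : (ι → F) → F) (e : V ≃ₗ[F] (ι → F)) (he : ∀ v, f (e v) = Q v) (hQ : Nd Q)
    (h2 : (2 : F) ≠ 0) {G : Type*} [Group G] (hG : ∀ θ : G →* ℤˣ, θ = 1)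
    (ψ : G →* Cfsg.isometryGroup F f) (g : G) : ψ g ∈ Cfsg.Omega F f := by
  rw [mem_omega_iff f e he, mem_commutator_iff hQ h2]
  exact ⟨DFunLike.congr_fun (hG ((dick hQ).comp ((isoEquiv f e he).toMonoidHom.comp ψ))) g,
    DFunLike.congr_fun (hG ((spn hQ).comp ((isoEquiv f e he).toMonoidHom.comp ψ))) g⟩

/-- Representations by isometries. -/
noncomputable def repHom {G : Type*} [Group G] (f : (ι → F) → F) (R : G → (ι → F) →ₗ[F] (ι → F))
    (hmul : ∀ g h x, R (g * h) x = R g (R h x)) (hone : ∀ x, R 1 x = x)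
    (hf : ∀ g x, f (R g x) = f x) : G →* Cfsg.isometryGroup F f :=
  MonoidHom.mk' (fun g => ⟨⟨LinearMap.toMatrix' (R g), LinearMap.toMatrix' (R g⁻¹),
      by rw [← LinearMap.toMatrix'_comp, show R g ∘ₗ R g⁻¹ = LinearMap.id from
        LinearMap.ext fun x => by simp [← hmul, hone], LinearMap.toMatrix'_id],
      by rw [← LinearMap.toMatrix'_comp, show R g⁻¹ ∘ₗ R g = LinearMap.id from
        LinearMap.ext fun x => by simp [← hmul, hone], LinearMap.toMatrix'_id]⟩,
    show ∀ u v : ι → F, f ((LinearMap.toMatrix' (R g)).mulVec u) = f u from fun u _ => by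
      rw [LinearMap.toMatrix'_mulVec, hf]⟩) fun g h => Subtype.ext (Units.ext (by
        show LinearMap.toMatrix' (R (g * h)) = LinearMap.toMatrix' (R g) * LinearMap.toMatrix' (R h)
        rw [← LinearMap.toMatrix'_comp]
        exact congrArg LinearMap.toMatrix' (LinearMap.ext fun x => hmul g h x)))

omit [Fintype F] in
lemma mem_ker_repHom {G : Type*} [Group G] {f : (ι → F) → F} {R : G → (ι → F) →ₗ[F] (ι → F)}
    {hmul : ∀ g h x, R (g * h) x = R g (R h x)} {hone : ∀ x, R 1 x = x}
    {hf : ∀ g x, f (R g x) = f x} {g : G} :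
    g ∈ (repHom f R hmul hone hf).ker ↔ ∀ x, R g x = x := by
  rw [MonoidHom.mem_ker]
  constructor
  · intro h x
    have h' : LinearMap.toMatrix' (R g) = 1 := congrArg (fun y : Cfsg.isometryGroup F f => (y.1 : Matrix ι ι F)) h
    rw [← LinearMap.toMatrix'_mulVec (R g) x, h', Matrix.one_mulVec]
  · intro h
    refine Subtype.ext (Units.ext ?_)
    show LinearMap.toMatrix' (R g) = 1
    rw [show R g = LinearMap.id from LinearMap.ext h, LinearMap.toMatrix'_id]

end Cfsg.Agent.Lib.Classical.ExcIso
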